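import Groth.Prelude.Def_DCoh4
import Groth.Agent.Lib.Gen43.Generator
import Groth.Agent.Lib.DerivedOX.PullPushAdj
import Groth.Agent.Lib.DerivedOX.QCohLocal
import Groth.Agent.Lib.DerivedOX.TildeEquiv
import Groth.Agent.Lib.DerivedOX.UnitTensor
import Groth.Agent.Lib.Perfect.FlatPerfect

/-!
# Detecting isomorphisms with internal Homs out of pseudo-coherent complexes
-/

set_option autoImplicit false
set_option linter.style.haveILetI false
set_option linter.unusedSectionVars false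

universe u

open CategoryTheory CategoryTheory.Limits CategoryTheory.Pretriangulated AlgebraicGeometry

attribute [local instance] HasDerivedCategory.standard

namespace Groth.Agent.H83.GenTest

open Groth.Agent.Lib Groth.Agent.Lib.DerivedOX

variable {X Y : Scheme.{u}}

/-- `𝒪 ⊗^L F ≅ F`. -/
theorem nonempty_unit_tensor (D : CochainComplex X.Modules ℤ) [DCoh.HasLTensorCx D] :
    Nonempty ((DCoh.LTensorCx D).obj (DerivedCategory.Q.obj (DerSch.unitCx X)) ≅
      DerivedCategory.Q.obj D) := by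
  obtain ⟨t⟩ := QCohLocal.nonempty_LTensorCx_iso D (BettiExact.TorProduct.isKFlat_unitCx X)
  exact ⟨t ≪≫ DerivedCategory.Q.mapIso (UnitTensor.unitShiftIso 0 D ≪≫
    (shiftFunctorZero' (CochainComplex X.Modules ℤ) (-0) neg_zero).app D)⟩

/-- `Lf^*𝒪 ≅ 𝒪`. -/
theorem nonempty_lpull_unit (f : X ⟶ Y) [DCoh.HasLpull f] :
    Nonempty ((DCoh.Lpull f).obj (DerivedCategory.Q.obj (DerSch.unitCx Y)) ≅
      DerivedCategory.Q.obj (DerSch.unitCx X)) := by
  obtain ⟨e⟩ := QCohLocal.nonempty_Lpull_iso f (BettiExact.TorProduct.isKFlat_unitCx Y)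
  exact ⟨e ≪≫ DerivedCategory.Q.mapIso (UnitTensor.pullOneIso f 0)⟩

lemma bijective_comp_of_isIso {C D : Type*} [Category C] [Category D] {L : C ⥤ D} {R : D ⥤ C}
    (adj : L ⊣ R) {O : C} {Q : D} (e : L.obj O ≅ Q) {A B : D} (φ : A ⟶ B)
    (h : Function.Bijective (fun a : O ⟶ R.obj A => a ≫ R.map φ)) :
    Function.Bijective (fun a : Q ⟶ A => a ≫ φ) := by
  let c := fun M : D => (e.homFromEquiv (Z := M)).symm.trans (adj.homEquiv O M)
  have hc : (fun a : Q ⟶ A => a ≫ φ) = (c B).symm ∘ (fun a => a ≫ R.map φ) ∘ (c A) := by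
    funext a
    apply (c B).injective
    simp [c, Iso.homFromEquiv, Adjunction.homEquiv_naturality_right]
  rw [hc]
  exact (c B).symm.bijective.comp (h.comp (c A).bijective)

variable [CompactSpace X] [QuasiSeparatedSpace X] (f : X ⟶ Y) [DCoh.HasRpush f]
  [hT : ∀ F : CochainComplex X.Modules ℤ, DCoh.HasLTensorCx F]
  [hR : ∀ F : CochainComplex X.Modules ℤ, DCoh.HasRSheafHom F]

/-- Isomorphisms in `D_qc` are detected by `Rf_* RHom(F, -)`, `F` pseudo-coherent. -/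
theorem isIso_of_isIso {A₁ A₂ : DCoh.D X} (h₁ : DCoh.IsQCohD A₁) (h₂ : DCoh.IsQCohD A₂) (φ : A₁ ⟶ A₂)
    (h : ∀ F : CochainComplex X.Modules ℤ, (∀ m : ℤ, DCoh.IsPseudoCoherentD m (DCoh.toD X F)) →
      IsIso ((DCoh.Rpush f).map ((DCoh.RSheafHom F).map φ))) :
    IsIso φ := by
  obtain ⟨P, hP, -, hgen⟩ := Gen43.Generator.exists_generator (⊥ : X.Opens)
    (by rw [TopologicalSpace.Opens.coe_bot]; exact isCompact_empty)
  haveI := LeftExists.hasLpull f
  have key : ∀ n : ℤ, Function.Bijective (fun a : P⟦n⟧ ⟶ A₁ => a ≫ φ) := fun n => by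
    obtain ⟨D, -, ⟨eD⟩⟩ := QCohLocal.exists_kflat (P⟦n⟧)
    have hpc := ((Perfect.FlatPerfect.isPerfect_iff_pc_tor _).1
      (Perfect.Triangle.isPerfect_of_iso eD.symm (Perfect.Triangle.isPerfect_shift hP n))).1
    haveI := h D hpc
    obtain ⟨u₁⟩ := nonempty_unit_tensor D
    obtain ⟨u₂⟩ := nonempty_lpull_unit f
    refine bijective_comp_of_isIso
      ((PullPushAdj.derivedAdjunction f).comp (DCoh.RSheafHomAdj D))
      ((DCoh.LTensorCx D).mapIso u₂ ≪≫ u₁ ≪≫ eD) φ ?_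
    exact (asIso ((DCoh.Rpush f).map ((DCoh.RSheafHom D).map φ))).homToEquiv.bijective
  obtain ⟨C, g₂, g₃, hT'⟩ := distinguished_cocone_triangle φ
  refine (Triangle.isZero₃_iff_isIso₁ _ hT').1 ?_
  refine hgen C ?_ (Gen43.Restrict.van_bot C) fun n g => ?_
  · exact TildeEquiv.isQCohD_mor₃ _ hT' h₁ h₂
  · let s := shiftFunctor (DCoh.D X) (1 : ℤ)
    let e : (P⟦n - 1⟧)⟦(1 : ℤ)⟧ ≅ P⟦n⟧ := (shiftFunctorAdd' (DCoh.D X) (n - 1) 1 n (by omega)).symm.app P
    obtain ⟨ψ, hψ⟩ := s.map_surjective (e.hom ≫ g ≫ g₃)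
    have h0 : g ≫ g₃ ≫ φ⟦(1 : ℤ)⟧' = 0 := by
      rw [show g₃ ≫ φ⟦(1 : ℤ)⟧' = 0 from comp_distTriang_mor_zero₃₁ _ hT', comp_zero]
    have hψ0 : ψ = 0 := (key (n - 1)).1 (s.map_injective (by
      rw [Functor.map_comp, hψ]
      simp only [Category.assoc]
      rw [h0, comp_zero, zero_comp, Functor.map_zero]))
    have hg : g ≫ g₃ = 0 := by
      rw [← cancel_epi e.hom, ← hψ, hψ0, Functor.map_zero, comp_zero]
    obtain ⟨a, ha⟩ := Triangle.coyoneda_exact₃ _ hT' g hg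
    obtain ⟨b, rfl⟩ := (key n).2 a
    rw [ha]
    exact (Category.assoc _ _ _).trans
      ((congrArg (b ≫ ·) (comp_distTriang_mor_zero₁₂ _ hT')).trans comp_zero)

end Groth.Agent.H83.GenTest
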